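import Mathlib

/-!
Weight spaces of a finite abelian group of operators, and the dimension bound from operators
commuting up to a nondegenerate family of scalars.
-/

set_option autoImplicit false

namespace CfsgLib.SUMinDegree

open Module

variable {G : Type*} [Group G] {V : Type*} [AddCommGroup V] [Module ℂ V]
  (ρ : Representation ℂ G V)

section Weight

variable {A : Type*} [AddCommGroup A] [Fintype A] (T : A → G)

/-- The weight space. -/
noncomputable def weight (ψ : A → ℂ) : Submodule ℂ V :=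
  ⨅ a, LinearMap.ker (ρ (T a) - ψ a • LinearMap.id)

theorem mem_weight {ψ : A → ℂ} {v : V} : v ∈ weight ρ T ψ ↔ ∀ a, ρ (T a) v = ψ a • v := by
  simp [weight, Submodule.mem_iInf, LinearMap.mem_ker, sub_eq_zero]

/-- The projection on a weight space. -/
noncomputable def proj (ψ : AddChar A ℂ) (v : V) : V := ∑ a : A, ψ (-a) • ρ (T a) v

variable {T} (hT : ∀ a b, T (a + b) = T a * T b)

include hT in
theorem proj_mem_weight (ψ : AddChar A ℂ) (v : V) : proj ρ T ψ v ∈ weight ρ T ψ := by
  refine (mem_weight ρ T).mpr fun b => ?_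
  rw [proj, map_sum, Finset.smul_sum]
  refine Fintype.sum_equiv (Equiv.addLeft b) _ _ fun a => ?_
  rw [map_smul, ← Module.End.mul_apply, ← map_mul, ← hT, smul_smul, ← AddChar.map_add_eq_mul]
  simp

theorem proj_mem {W : Submodule ℂ V} (hW : ∀ a, ∀ v ∈ W, ρ (T a) v ∈ W) (ψ : AddChar A ℂ) {v : V}
    (hv : v ∈ W) : proj ρ T ψ v ∈ W :=
  Submodule.sum_mem _ fun a _ => Submodule.smul_mem _ _ (hW a v hv)

include hT in
theorem apply_zero (v : V) : ρ (T 0) v = v := by
  have h := hT 0 0
  rw [add_zero, left_eq_mul] at h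
  rw [h, map_one]; rfl

include hT in
theorem sum_proj (v : V) : ∑ ψ : AddChar A ℂ, proj ρ T ψ v = (Fintype.card A : ℂ) • v := by
  classical
  simp only [proj]
  rw [Finset.sum_comm]
  simp only [← Finset.sum_smul, AddChar.sum_apply_eq_ite, neg_eq_zero, ite_smul, zero_smul]
  rw [Finset.sum_ite_eq' Finset.univ 0, if_pos (Finset.mem_univ _), apply_zero ρ hT]

include hT in
theorem exists_weight {W : Submodule ℂ V} (hW : ∀ a, ∀ v ∈ W, ρ (T a) v ∈ W) {v : V} (hv : v ∈ W)
    (hv0 : v ≠ 0) : ∃ (ψ : AddChar A ℂ) (w : V), w ≠ 0 ∧ w ∈ W ∧ w ∈ weight ρ T ψ := by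
  by_contra hc
  push Not at hc
  have h0 : ∀ ψ, proj ρ T ψ v = 0 := fun ψ => by
    by_contra h
    exact hc ψ _ h (proj_mem ρ hW ψ hv) (proj_mem_weight ρ hT ψ v)
  have h := sum_proj ρ hT v
  rw [Finset.sum_eq_zero fun ψ _ => h0 ψ] at h
  exact (smul_ne_zero (Nat.cast_ne_zero.mpr Fintype.card_ne_zero) hv0) h.symm

include hT in
theorem exists_weight_ne {W : Submodule ℂ V} (hW : ∀ a, ∀ v ∈ W, ρ (T a) v ∈ W) {v : V} (hv : v ∈ W)
    {a : A} (ha : ρ (T a) v ≠ v) :
    ∃ (ψ : AddChar A ℂ) (w : V), ψ ≠ 1 ∧ w ≠ 0 ∧ w ∈ W ∧ w ∈ weight ρ T ψ := by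
  by_contra hc
  push Not at hc
  have h0 : ∀ ψ, ψ ≠ 1 → proj ρ T ψ v = 0 := fun ψ hψ => by
    by_contra h
    exact hc ψ _ hψ h (proj_mem ρ hW ψ hv) (proj_mem_weight ρ hT ψ v)
  have h := sum_proj ρ hT v
  rw [Finset.sum_eq_single (1 : AddChar A ℂ) (fun ψ _ hψ => h0 ψ hψ)
    (fun h => absurd (Finset.mem_univ _) h)] at h
  have hfix := (mem_weight ρ T).mp (proj_mem_weight ρ hT 1 v) a
  rw [h, AddChar.one_apply, one_smul, map_smul] at hfix
  exact ha (smul_right_injective V (Nat.cast_ne_zero.mpr Fintype.card_ne_zero) hfix)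

theorem proj_of_weight (ψ φ : AddChar A ℂ) {v : V} (hv : v ∈ weight ρ T φ) :
    proj ρ T ψ v = (if φ = ψ then (Fintype.card A : ℂ) else 0) • v := by
  classical
  simp only [proj, (mem_weight ρ T).mp hv, smul_smul]
  rw [← Finset.sum_smul]
  congr 1
  split_ifs with h
  · subst h
    simp [← AddChar.map_add_eq_mul]
  · have hne : φ * ψ⁻¹ ≠ 1 := fun e => h (mul_inv_eq_one.mp e)
    have h0 := AddChar.sum_eq_zero_iff_ne_zero.mpr (show φ * ψ⁻¹ ≠ 0 from hne)
    rw [← h0]
    exact Finset.sum_congr rfl fun a _ => by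
      rw [AddChar.mul_apply, AddChar.inv_apply, mul_comm]

/-- Weight spaces of distinct weights are independent. -/
theorem sum_finrank_le [FiniteDimensional ℂ V] {ι : Type*} [Fintype ι] (ψ : ι → AddChar A ℂ)
    (hψ : Function.Injective ψ) (W : Submodule ℂ V) :
    ∑ i, finrank ℂ (W ⊓ weight ρ T (ψ i) : Submodule ℂ V) ≤ finrank ℂ W := by
  classical
  let L : (∀ i, (W ⊓ weight ρ T (ψ i) : Submodule ℂ V)) →ₗ[ℂ] W :=
    { toFun := fun x => ⟨∑ i, (x i : V), Submodule.sum_mem _ fun i _ => (x i).2.1⟩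
      map_add' := fun x y => Subtype.ext (by simp [Finset.sum_add_distrib])
      map_smul' := fun c x => Subtype.ext (by simp [Finset.smul_sum]) }
  have hL : Function.Injective L := by
    rw [← LinearMap.ker_eq_bot, LinearMap.ker_eq_bot']
    intro x hx
    have hx' : ∑ i, (x i : V) = 0 := congrArg Subtype.val hx
    funext i
    have h1 : proj ρ T (ψ i) (∑ j, (x j : V)) = ∑ j, proj ρ T (ψ i) (x j : V) := by
      simp only [proj, map_sum, Finset.smul_sum]
      exact Finset.sum_comm
    rw [hx', Finset.sum_eq_single i (fun j _ hj => by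
      rw [proj_of_weight ρ _ _ (x j).2.2, if_neg fun e => hj (hψ e), zero_smul])
      (fun h => absurd (Finset.mem_univ _) h), proj_of_weight ρ _ _ (x i).2.2, if_pos rfl] at h1
    have h2 : proj ρ T (ψ i) 0 = 0 := by simp [proj]
    rw [h2] at h1
    exact Subtype.ext ((smul_eq_zero.mp h1.symm).resolve_left
      (Nat.cast_ne_zero.mpr Fintype.card_ne_zero))
  have := LinearMap.finrank_le_finrank_of_injective hL
  rwa [finrank_pi_fintype] at this

end Weight

/-- Operators commuting up to scalars that separate their labels span a space of their number. -/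
theorem card_le_finrank_sq [FiniteDimensional ℂ V] {X : Type*} [Fintype X] (U : Submodule ℂ V)
    (hU : U ≠ ⊥) (S : X → G) (hS : ∀ x, ∀ v ∈ U, ρ (S x) v ∈ U) (ω : X → X → ℂ)
    (hω : ∀ x y, ∀ v ∈ U, ρ (S x * S y) v = ω x y • ρ (S y * S x) v)
    (hsep : ∀ x z, x ≠ z → ∃ y, ω x y ≠ ω z y) :
    Fintype.card X ≤ finrank ℂ U * finrank ℂ U := by
  classical
  haveI : Nontrivial U := Submodule.nontrivial_iff_ne_bot.mpr hU
  let P : X → (U →ₗ[ℂ] U) := fun x => (ρ (S x)).restrict (hS x)
  have hinj : ∀ x, Function.Injective (P x) := fun x a b h => Subtype.ext (by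
    have h1 : ρ (S x)⁻¹ (ρ (S x) (a : V)) = ρ (S x)⁻¹ (ρ (S x) (b : V)) :=
      congrArg (ρ (S x)⁻¹) (congrArg Subtype.val h)
    simpa [← Module.End.mul_apply, ← map_mul] using h1)
  let e : X → (U ≃ₗ[ℂ] U) := fun x => LinearEquiv.ofInjectiveEndo (P x) (hinj x)
  have hcomm : ∀ x y w, P x (P y w) = ω x y • P y (P x w) := fun x y w => Subtype.ext (by
    have h := hω x y w w.2
    simp only [map_mul, Module.End.mul_apply] at h
    exact h)
  have hω0 : ∀ x y, ω x y ≠ 0 := fun x y h => by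
    obtain ⟨w, hw⟩ := exists_ne (0 : U)
    have h1 := hcomm x y w
    rw [h, zero_smul] at h1
    exact hw (hinj y (hinj x (by rw [h1]; simp)))
  let Q : X → X → (U →ₗ[ℂ] U) := fun x z => P x ∘ₗ (e z).symm.toLinearMap
  have hez : ∀ z w, P z ((e z).symm w) = w := fun z w => (e z).apply_symm_apply w
  have hQ : ∀ x z y w, P y (Q x z w) = (ω z y / ω x y) • Q x z (P y w) := by
    intro x z y w
    set u := (e z).symm w
    have hu : P z u = w := hez z w
    have h1 : (e z).symm (P y w) = (ω z y)⁻¹ • P y u := by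
      apply (e z).injective
      rw [LinearEquiv.apply_symm_apply, map_smul]
      show P y w = (ω z y)⁻¹ • P z (P y u)
      rw [hcomm z y u, hu, inv_smul_smul₀ (hω0 z y)]
    show P y (P x u) = _ • P x ((e z).symm (P y w))
    rw [h1, map_smul, hcomm x y u, smul_smul, smul_smul]
    rw [show ω z y / ω x y * (ω z y)⁻¹ * ω x y = 1 by
      field_simp [hω0 z y, hω0 x y], one_smul]
  have htr : ∀ x z, x ≠ z → LinearMap.trace ℂ U (Q x z) = 0 := by
    intro x z hxz
    obtain ⟨y, hy⟩ := hsep x z hxz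
    set c := ω z y / ω x y with hc
    have hconj : (e y).conj (Q x z) = c • Q x z := LinearMap.ext fun w => by
      rw [LinearEquiv.conj_apply_apply]
      show P y (Q x z ((e y).symm w)) = _
      rw [hQ, hez]
      rfl
    have h := LinearMap.trace_conj' (Q x z) (e y)
    rw [hconj, map_smul, smul_eq_mul] at h
    have hc1 : c ≠ 1 := fun h1 => hy ((div_eq_one_iff_eq (hω0 x y)).mp h1).symm
    by_contra h0
    exact hc1 (mul_right_cancel₀ h0 (h.trans (one_mul _).symm))
  have hli : LinearIndependent ℂ P := by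
    rw [Fintype.linearIndependent_iff]
    intro g hg z
    have h1 : ∑ x, g x • Q x z = 0 := LinearMap.ext fun w => by
      simpa [Q, LinearMap.sum_apply] using LinearMap.congr_fun hg ((e z).symm w)
    have h2 := congrArg (LinearMap.trace ℂ U) h1
    rw [map_sum, map_zero, Finset.sum_eq_single z (fun x _ hx => by
      rw [map_smul, htr x z hx, smul_zero]) (fun h => absurd (Finset.mem_univ _) h), map_smul,
      show Q z z = LinearMap.id from LinearMap.ext fun w => hez z w, LinearMap.trace_id,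
      smul_eq_mul] at h2
    exact (mul_eq_zero.mp h2).resolve_right (Nat.cast_ne_zero.mpr finrank_pos.ne')
  have := hli.fintype_card_le_finrank
  rwa [finrank_linearMap] at this

end CfsgLib.SUMinDegree
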