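import Cfsg.Agent.Lib.Classical.UnitaryElation

/-!
Isotropic vectors on pairs of coordinates, root elements, and isometries of determinant one
scaling or exchanging the pairs.
-/

set_option autoImplicit false
set_option linter.unusedSectionVars false

namespace CfsgLib.SUMinDegree

open Matrix Cfsg CfsgLib.Classical.Herm CfsgLib.Classical.Elation
open CfsgLib.ClassicalAut (Unitary.Conj Unitary.herm_apply)

variable {F : Type*} [Field F] [Finite F] {q : ℕ} (K : Unitary.Conj F q) {n : ℕ}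

local notation "H" => hermForm n F q

/-- The vector `e_{2i} + ξ e_{2i+1}`. -/
def pvec (ξ : F) (i : ℕ) : Fin n → F := fun k =>
  if (k : ℕ) = 2 * i then 1 else if (k : ℕ) = 2 * i + 1 then ξ else 0

theorem pvec_eq {i : ℕ} (ξ : F) (hi : 2 * i + 1 < n) :
    (pvec ξ i : Fin n → F) = Pi.single ⟨2 * i, by omega⟩ 1 + ξ • Pi.single ⟨2 * i + 1, hi⟩ 1 := by
  funext k
  simp only [pvec, Pi.add_apply, Pi.smul_apply, Pi.single_apply, smul_eq_mul, Fin.ext_iff]
  split_ifs <;> simp_all

theorem h_pvec (v : Fin n → F) {i : ℕ} (ξ : F) (hi : 2 * i + 1 < n) :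
    H v (pvec ξ i) = v ⟨2 * i, by omega⟩ + K.bar ξ * v ⟨2 * i + 1, hi⟩ := by
  rw [pvec_eq ξ hi, h_add_right K, h_smul_right K, h_single K, h_single K]

include K in
theorem h_pvec_ne (ξ η : F) {i j : ℕ} (hj : 2 * j + 1 < n) (h : i ≠ j) :
    H (pvec ξ i) (pvec η j) = 0 := by
  rw [h_pvec K _ η hj]
  simp only [pvec]
  rw [if_neg (by omega), if_neg (by omega), if_neg (by omega), if_neg (by omega), mul_zero, add_zero]

theorem h_pvec_self (ξ η : F) {i : ℕ} (hi : 2 * i + 1 < n) :
    H (pvec ξ i) (pvec η i) = 1 + ξ * K.bar η := by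
  rw [h_pvec K _ η hi]
  simp [pvec, mul_comm]

/-- Two different norm `-1` scalars. -/
theorem exists_pair : ∃ ξ η : F, ξ * K.bar ξ = -1 ∧ η * K.bar η = -1 ∧ 1 + η * K.bar ξ ≠ 0 := by
  obtain ⟨ξ, hξ⟩ := K.exists_norm (-1) (by rw [map_neg, map_one])
  have : Nontrivial {a : F // a * K.bar a = 1} :=
    Finite.one_lt_card_iff_nontrivial.1 (by rw [card_norm_one K]; have := K.two_le; omega)
  obtain ⟨⟨z, hz⟩, hz1⟩ := exists_ne (⟨1, by simp⟩ : {a : F // a * K.bar a = 1})
  refine ⟨ξ, ξ * z, hξ, ?_, fun h => hz1 (Subtype.ext ?_)⟩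
  · rw [map_mul]; linear_combination ξ * K.bar ξ * hz + hξ
  · linear_combination -h + z * hξ

/-- The elation with given parameters, or one. -/
noncomputable def el (e x : Fin n → F) (t : F) : SU n F q :=
  open _root_.Classical in if h : ∃ g, IsSg K g e x t then h.choose else 1

theorem el_spec (hn : 3 ≤ n) {e x : Fin n → F} {t : F} (he : H e e = 0) (hx : H x e = 0)
    (ht : H x x + t + K.bar t = 0) : IsSg K (el K e x t) e x t := by
  have h := exists_sg K hn he hx ht
  rw [el, dif_pos h]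
  exact h.choose_spec

/-- An isometry of determinant one with a given matrix. -/
def mkSU (A : Matrix (Fin n) (Fin n) F) (hd : A.det = 1)
    (hA : ∀ x y, H (A *ᵥ x) (A *ᵥ y) = H x y) : SU n F q := ⟨⟨A, hd⟩, hA⟩

theorem app_mkSU (A : Matrix (Fin n) (Fin n) F) (hd : A.det = 1)
    (hA : ∀ x y, H (A *ᵥ x) (A *ᵥ y) = H x y) (x : Fin n → F) : app (mkSU A hd hA) x = A *ᵥ x := rfl

/-- The map `e ↦ l e`, `f ↦ m f`, fixing the orthogonal complement. -/
def planeMat (e f : Fin n → F) (l m : F) : Matrix (Fin n) (Fin n) F :=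
  1 + Matrix.of (fun i (c : Fin 2) => ![(l - 1) / H e f * e i, (m - 1) / H f e * f i] c) *
    Matrix.of (fun (c : Fin 2) j => ![K.bar (f j), K.bar (e j)] c)

theorem planeMat_apply (e f : Fin n → F) (l m : F) (x : Fin n → F) :
    planeMat K e f l m *ᵥ x =
      x + ((l - 1) / H e f * H x f) • e + ((m - 1) / H f e * H x e) • f := by
  rw [planeMat, add_mulVec, one_mulVec, ← mulVec_mulVec, add_assoc]
  congr 1
  funext i
  simp only [mulVec, dotProduct, Fin.sum_univ_two, Pi.add_apply, Pi.smul_apply, smul_eq_mul,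
    Matrix.of_apply, Matrix.cons_val_zero, Matrix.cons_val_one, Unitary.herm_apply K, Finset.mul_sum,
    Finset.sum_mul, ← Finset.sum_add_distrib]
  exact Finset.sum_congr rfl fun j _ => by ring

variable {e f : Fin n → F} {l m : F} (he : hermForm n F q e e = 0) (hf : hermForm n F q f f = 0)
  (hef : hermForm n F q e f ≠ 0)

include he hf hef in
theorem planeMat_det : (planeMat K e f l m).det = l * m := by
  have hfe := h_ne_zero_symm K hef
  rw [planeMat, Matrix.det_one_add_mul_comm]
  have e1 : (Matrix.of (fun (c : Fin 2) j => ![K.bar (f j), K.bar (e j)] c) *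
      Matrix.of (fun i (c : Fin 2) => ![(l - 1) / H e f * e i, (m - 1) / H f e * f i] c)) =
      Matrix.of ![![(l - 1) / H e f * H e f, (m - 1) / H f e * H f f],
        ![(l - 1) / H e f * H e e, (m - 1) / H f e * H f e]] := by
    ext a b
    fin_cases a <;> fin_cases b <;>
      simp [Matrix.mul_apply, Unitary.herm_apply K, Finset.mul_sum] <;>
      exact Finset.sum_congr rfl fun j _ => by ring
  rw [e1, Matrix.det_fin_two]
  simp [he, hf, div_mul_cancel₀ _ hef, div_mul_cancel₀ _ hfe]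

include he hf hef in
theorem planeMat_isometry (hlm : l * K.bar m = 1) (x y : Fin n → F) :
    H (planeMat K e f l m *ᵥ x) (planeMat K e f l m *ᵥ y) = H x y := by
  have hfe := h_ne_zero_symm K hef
  have hml : m * K.bar l = 1 := by
    have := congrArg K.bar hlm
    rw [map_mul, map_one, K.bar_bar] at this
    linear_combination this
  rw [planeMat_apply, planeMat_apply]
  simp only [h_add_left K, h_add_right K, h_smul_left K, h_smul_right K, he, hf, map_mul, map_div₀,
    map_sub, map_one]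
  rw [show K.bar (H e f) = H f e from (h_swap K e f).symm,
    show K.bar (H f e) = H e f from (h_swap K f e).symm, h_swap K y e, h_swap K y f]
  field_simp
  linear_combination (H f e * H x f * K.bar (H y e)) * hlm + (H e f * H x e * K.bar (H y f)) * hml

include he hf hef in
theorem planeMat_left : planeMat K e f l m *ᵥ e = l • e := by
  rw [planeMat_apply, he, div_mul_cancel₀ _ hef, mul_zero, zero_smul, add_zero, sub_smul, one_smul]
  abel

theorem planeMat_perp {x : Fin n → F} (hxe : H x e = 0) (hxf : H x f = 0) :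
    planeMat K e f l m *ᵥ x = x := by
  rw [planeMat_apply, hxe, hxf, mul_zero, mul_zero, zero_smul, zero_smul, add_zero, add_zero]

omit he hf hef in
include K in
/-- Scaling the `j`-th vector, keeping the lines of the previous ones. -/
theorem exists_scale {ξ η : F} (hξ : ξ * K.bar ξ = -1) (hη : η * K.bar η = -1)
    (hh : 1 + η * K.bar ξ ≠ 0) (hn : 3 ≤ n) {j : ℕ} (hj : 2 * j + 1 < n) {c : F} (hc : c ≠ 0) :
    ∃ g : SU n F q, app g (pvec ξ j) = c • pvec ξ j ∧
      ∀ i, i < j → ∃ d : F, d ≠ 0 ∧ app g (pvec ξ i) = d • pvec ξ i := by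
  classical
  have hiso : ∀ a : F, a * K.bar a = -1 → ∀ {i : ℕ}, 2 * i + 1 < n →
      H (pvec a i : Fin n → F) (pvec a i) = 0 := fun a ha i hi => by
    rw [h_pvec_self K a a hi, ha, add_neg_cancel]
  have hpair : ∀ {i : ℕ}, 2 * i + 1 < n → H (pvec ξ i : Fin n → F) (pvec η i) ≠ 0 := fun {i} hi => by
    refine h_ne_zero_symm K ?_
    rw [h_pvec_self K η ξ hi]; exact hh
  have hm : ∀ c : F, c ≠ 0 → c * K.bar (K.bar c)⁻¹ = 1 := fun c hc => by
    rw [map_inv₀, K.bar_bar, mul_inv_cancel₀ hc]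
  set A := planeMat K (pvec ξ j : Fin n → F) (pvec η j) c (K.bar c)⁻¹
  have hAdet : A.det = c * (K.bar c)⁻¹ := planeMat_det K (hiso ξ hξ hj) (hiso η hη hj) (hpair hj)
  have hAiso := planeMat_isometry K (hiso ξ hξ hj) (hiso η hη hj) (hpair hj) (hm c hc)
  have hAj : A *ᵥ pvec ξ j = c • pvec ξ j := planeMat_left K (hiso ξ hξ hj) (hiso η hη hj) (hpair hj)
  have hAi : ∀ i, i ≠ j → A *ᵥ (pvec ξ i : Fin n → F) = pvec ξ i := fun i hi =>
    planeMat_perp K (h_pvec_ne K ξ ξ hj hi) (h_pvec_ne K ξ η hj hi)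
  by_cases hlast : 2 * j + 2 < n
  · -- correct the determinant outside
    set w : Fin n → F := Pi.single ⟨2 * j + 2, hlast⟩ 1
    set ω := K.bar c * c⁻¹
    have hww : H w w = 1 := by rw [h_single K]; simp [w]
    have hω : ω * K.bar ω = 1 := by
      simp only [ω, map_mul, K.bar_bar, map_inv₀]
      field_simp [hc, (map_ne_zero K.bar).2 hc]
    have hwi : ∀ i, i ≤ j → H (pvec ξ i : Fin n → F) w = 0 := fun i hi => by
      rw [h_single K]
      simp only [pvec]
      rw [if_neg (by omega), if_neg (by omega)]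
    refine ⟨mkSU (quasi K w (ω - 1) * A) ?_ fun x y => ?_, ?_, fun i hi => ⟨1, one_ne_zero, ?_⟩⟩
    · rw [Matrix.det_mul, det_quasi, hww, hAdet]
      show (1 + (K.bar c * c⁻¹ - 1) * 1) * (c * (K.bar c)⁻¹) = 1
      field_simp [hc, (map_ne_zero K.bar).2 hc]
      ring
    · rw [← mulVec_mulVec, ← mulVec_mulVec, quasi_isometry K ?_, hAiso]
      rw [hww, map_sub, map_one]
      linear_combination hω
    · rw [app_mkSU, ← mulVec_mulVec, hAj, quasi_apply, h_smul_left K, hwi j le_rfl, mul_zero,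
        mul_zero, zero_smul, add_zero]
    · rw [app_mkSU, ← mulVec_mulVec, hAi i (by omega), quasi_apply, hwi i hi.le, mul_zero, zero_smul,
        add_zero, one_smul]
  · -- correct it on the first pair
    have hj0 : 0 ≠ j := by omega
    have h0 : 2 * 0 + 1 < n := by omega
    set B := planeMat K (pvec ξ 0 : Fin n → F) (pvec η 0) c⁻¹ (K.bar c⁻¹)⁻¹
    have hBiso := planeMat_isometry K (hiso ξ hξ h0) (hiso η hη h0) (hpair h0)
      (hm c⁻¹ (inv_ne_zero hc))
    refine ⟨mkSU (B * A) ?_ fun x y => ?_, ?_, fun i hi => ?_⟩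
    · rw [Matrix.det_mul, hAdet, planeMat_det K (hiso ξ hξ h0) (hiso η hη h0) (hpair h0), map_inv₀,
        inv_inv]
      field_simp [hc, (map_ne_zero K.bar).2 hc]
    · rw [← mulVec_mulVec, ← mulVec_mulVec, hBiso, hAiso]
    · rw [app_mkSU, ← mulVec_mulVec, hAj, Matrix.mulVec_smul,
        planeMat_perp K (h_pvec_ne K ξ ξ h0 hj0.symm) (h_pvec_ne K ξ η h0 hj0.symm)]
    · rcases Nat.eq_zero_or_pos i with rfl | h
      · exact ⟨c⁻¹, inv_ne_zero hc, by
          rw [app_mkSU, ← mulVec_mulVec, hAi 0 hj0,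
            planeMat_left K (hiso ξ hξ h0) (hiso η hη h0) (hpair h0)]⟩
      · exact ⟨1, one_ne_zero, by
          rw [app_mkSU, ← mulVec_mulVec, hAi i (by omega),
            planeMat_perp K (h_pvec_ne K ξ ξ h0 (by omega)) (h_pvec_ne K ξ η h0 (by omega)),
            one_smul]⟩

include K in
omit he hf hef in
/-- Exchanging the first and the `j`-th pair. -/
theorem exists_swap (ξ : F) {j : ℕ} (hj : 2 * j + 1 < n) :
    ∃ g : SU n F q, app g (pvec ξ 0) = pvec ξ j ∧ app g (pvec ξ j) = pvec ξ 0 ∧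
      ∀ i, i ≠ 0 → i ≠ j → app g (pvec ξ i) = pvec ξ i := by
  classical
  have hn0 : 1 < n := by omega
  set σ : Equiv.Perm (Fin n) := Equiv.swap ⟨0, by omega⟩ ⟨2 * j, by omega⟩ *
    Equiv.swap ⟨1, hn0⟩ ⟨2 * j + 1, hj⟩
  have hsign : Equiv.Perm.sign σ = 1 := by
    by_cases h : j = 0
    · subst h
      simp [σ]
    · rw [map_mul, Equiv.Perm.sign_swap (fun h' => h (by simpa using congrArg Fin.val h')),
        Equiv.Perm.sign_swap (fun h' => h (by simpa using congrArg Fin.val h'))]
      decide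
  set A : Matrix (Fin n) (Fin n) F := (1 : Matrix (Fin n) (Fin n) F).submatrix σ id
  have hA : ∀ x, A *ᵥ x = x ∘ σ := fun x => funext fun i => by
    simp [A, Matrix.mulVec, dotProduct, Matrix.one_apply]
  have hdet : A.det = 1 := by
    rw [show A = (1 : Matrix (Fin n) (Fin n) F).submatrix σ id from rfl, Matrix.det_permute, hsign]
    simp
  have hiso : ∀ x y, H (A *ᵥ x) (A *ᵥ y) = H x y := fun x y => by
    rw [hA, hA, Unitary.herm_apply K, Unitary.herm_apply K]
    exact Equiv.sum_comp σ fun i => x i * K.bar (y i)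
  have hval : ∀ k : Fin n, ((σ k : Fin n) : ℕ) =
      if (k : ℕ) = 0 then 2 * j else if (k : ℕ) = 1 then 2 * j + 1
      else if (k : ℕ) = 2 * j then 0 else if (k : ℕ) = 2 * j + 1 then 1 else (k : ℕ) := by
    intro k
    simp only [σ, Equiv.Perm.coe_mul, Function.comp_apply, Equiv.swap_apply_def, Fin.ext_iff]
    split_ifs <;> simp_all <;> omega
  refine ⟨mkSU A hdet hiso, ?_, ?_, fun i hi hij => ?_⟩ <;> rw [app_mkSU, hA] <;> funext k <;>
    simp only [Function.comp_apply, pvec, hval] <;> split_ifs <;> first | rfl | omega | contradiction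

end CfsgLib.SUMinDegree
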