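import Cfsg.Agent.Lib.SUMinDegree.Eigen
import Cfsg.Agent.Lib.SUMinDegree.Vectors
import Cfsg.Agent.Lib.Classical.UnitarySimple
import Cfsg.Agent.Lib.Classical.UnitaryRootGroup

/-!
A nontrivial representation of `SU_n(q)` has degree at least `(q^n - q^(n-2m)) / (q + 1)` for
`2m ≤ n`: weight spaces of commuting transvection groups carry Heisenberg actions.
-/

set_option autoImplicit false
set_option linter.unusedSectionVars false

namespace CfsgLib.SUMinDegree

open Matrix Cfsg Module CfsgLib.Classical.Herm CfsgLib.Classical.Elation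
open CfsgLib.ClassicalAut (Unitary.Conj Unitary.space Unitary.skewSurj)

variable {F : Type*} [Field F] [Finite F] {q : ℕ} (K : Unitary.Conj F q) {n : ℕ}

local notation "H" => hermForm n F q

/-- The scalars of transvections. -/
def skew : AddSubgroup F := ((AddMonoidHom.id F) + K.bar.toAddMonoidHom).ker

theorem mem_skew {c : F} : c ∈ skew K ↔ c + K.bar c = 0 := Iff.rfl

theorem skew_of (z : F) : K.bar z - z ∈ skew K := by
  rw [mem_skew, map_sub, K.bar_bar]; ring

theorem exists_sub_bar {c : F} (hc : c ∈ skew K) : ∃ z, K.bar z - z = c := by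
  obtain ⟨y, hy⟩ := Unitary.skewSurj (n := 1) K c
    (show (1 : F) * c + K.bar c = 0 by rw [one_mul]; exact hc)
  change y - 1 * K.bar y = c at hy
  refine ⟨-y, ?_⟩
  rw [map_neg]
  linear_combination hy

theorem mul_mem_skew {s c : F} (hs : K.bar s = s) (hc : c ∈ skew K) : s * c ∈ skew K := by
  rw [mem_skew] at hc ⊢
  rw [map_mul, hs]
  linear_combination s * hc

theorem card_skew : Nat.card (skew K) = q := by
  obtain ⟨θ, hθ0, hθ⟩ := exists_skew K
  have hb : K.bar θ = -θ := by linear_combination hθ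
  refine Eq.trans (Nat.card_congr ?_) (Classical.URoot.card_fix K)
  exact
    { toFun := fun c => ⟨(c : F) / θ, by
        have h := (mem_skew K).mp c.2
        rw [map_div₀, hb, show K.bar (c : F) = -(c : F) by linear_combination h, neg_div_neg_eq]⟩
      invFun := fun s => ⟨θ * (s : F), by
        rw [mem_skew, map_mul, hb, s.2]; ring⟩
      left_inv := fun c => Subtype.ext (mul_div_cancel₀ _ hθ0)
      right_inv := fun s => Subtype.ext (mul_div_cancel_left₀ _ hθ0) }

noncomputable local instance instFintypeSkew : Fintype (skew K) := Fintype.ofFinite _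

/-- Twisting a character of the scalars. -/
noncomputable def twist (ψ : AddChar (skew K) ℂ) (s : {s : F // K.bar s = s}) :
    AddChar (skew K) ℂ where
  toFun c := ψ ⟨(s : F) * c, mul_mem_skew K s.2 c.2⟩
  map_zero_eq_one' := by
    rw [← AddChar.map_zero_eq_one ψ]
    exact congrArg ψ (Subtype.ext (mul_zero _))
  map_add_eq_mul' a b := by
    rw [← AddChar.map_add_eq_mul]
    exact congrArg ψ (Subtype.ext (mul_add _ _ _))

theorem twist_apply (ψ : AddChar (skew K) ℂ) (s : {s : F // K.bar s = s}) (c : skew K) :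
    twist K ψ s c = ψ ⟨(s : F) * c, mul_mem_skew K s.2 c.2⟩ := rfl

theorem twist_injective {ψ : AddChar (skew K) ℂ} (hψ : ψ ≠ 1) : Function.Injective (twist K ψ) := by
  intro s t hst
  by_contra hne
  refine hψ (DFunLike.ext _ _ fun c => ?_)
  have hd : (s : F) - t ≠ 0 := sub_ne_zero.mpr fun h => hne (Subtype.ext h)
  have hfix : K.bar ((s : F) - t)⁻¹ = ((s : F) - t)⁻¹ := by rw [map_inv₀, map_sub, s.2, t.2]
  set a : skew K := ⟨((s : F) - t)⁻¹ * c, mul_mem_skew K hfix c.2⟩
  have h := DFunLike.congr_fun hst a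
  rw [twist_apply, twist_apply] at h
  have e : (⟨(s : F) * a, mul_mem_skew K s.2 a.2⟩ : skew K) =
      c + ⟨(t : F) * a, mul_mem_skew K t.2 a.2⟩ := by
    refine Subtype.ext ?_
    show (s : F) * (((s : F) - t)⁻¹ * c) = c + t * (((s : F) - t)⁻¹ * c)
    field_simp
    ring
  rw [e, AddChar.map_add_eq_mul] at h
  have h0 : ψ ⟨(t : F) * a, mul_mem_skew K t.2 a.2⟩ ≠ 0 := (ψ.val_isUnit _).ne_zero
  rw [AddChar.one_apply]
  exact mul_right_cancel₀ h0 (h.trans (one_mul _).symm)

theorem twist_surjective {ψ : AddChar (skew K) ℂ} (hψ : ψ ≠ 1) : Function.Surjective (twist K ψ) := by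
  have := Fintype.ofFinite {s : F // K.bar s = s}
  refine ((Fintype.bijective_iff_injective_and_card _).mpr ⟨twist_injective K hψ, ?_⟩).2
  rw [AddChar.card_eq, ← Nat.card_eq_fintype_card, ← Nat.card_eq_fintype_card, card_skew, Classical.URoot.card_fix]

/-! ### Elations -/

/-- The transvections at `pvec ξ i`. -/
noncomputable def tv (ξ : F) (i : ℕ) (c : skew K) : SU n F q := el K (pvec ξ i) 0 c

variable (hn : 3 ≤ n) {ξ η : F} (hξ : ξ * K.bar ξ = -1) (hη : η * K.bar η = -1)
  (hh : 1 + η * K.bar ξ ≠ 0)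

include hn in
theorem tv_spec {e : Fin n → F} (he : hermForm n F q e e = 0) (c : skew K) :
    IsSg K (el K e 0 (c : F)) e 0 c :=
  el_spec K hn he (h_zero_left K _) (by rw [h_zero_left K, zero_add]; exact c.2)

include hξ in
theorem iso {i : ℕ} (hi : 2 * i + 1 < n) : H (pvec ξ i : Fin n → F) (pvec ξ i) = 0 := by
  rw [h_pvec_self K ξ ξ hi, hξ, add_neg_cancel]

include hn hξ in
theorem tv_add {i : ℕ} (hi : 2 * i + 1 < n) (a b : skew K) :
    (tv K ξ i (a + b) : SU n F q) = tv K ξ i a * tv K ξ i b := by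
  refine sg_unique K (tv_spec K hn (iso K hξ hi) _) ?_
  have h := sg_mul K (tv_spec K hn (iso K hξ hi) a) (tv_spec K hn (iso K hξ hi) b)
  rw [add_zero, h_zero_left K, sub_zero] at h
  rw [AddSubgroup.coe_add]
  exact h

include hn in
theorem conj_el {e : Fin n → F} (he : hermForm n F q e e = 0) (c : skew K) {s : SU n F q}
    {e' : Fin n → F} (hse : app s e = e') : el K e' 0 (c : F) * s = s * el K e 0 c := by
  have h := sg_conj K (tv_spec K hn he c) s
  rw [hse, show app s (0 : Fin n → F) = 0 from mulVec_zero _] at h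
  have he' : H e' e' = 0 := by rw [← hse, h_app, he]
  rw [sg_unique K (tv_spec K hn he' c) h, mul_assoc, inv_mul_cancel, mul_one]

theorem el_fix {e x w : Fin n → F} {t : F} {g : SU n F q} (h : IsSg K g e x t)
    (hwe : H w e = 0) (hwx : H w x = 0) : app g w = w := by
  rw [app_eq K h, hwe, hwx, mul_zero, zero_smul, zero_smul, add_zero, sub_zero, add_zero]

include K hn in
theorem exists_map {v w : Fin n → F} (hv : H v v = 0) (hv0 : v ≠ 0) (hw : H w w = 0) (hw0 : w ≠ 0) :
    ∃ g : SU n F q, ∃ a : F, a ≠ 0 ∧ app g v = a • w := by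
  obtain ⟨p, hp⟩ := CharP.exists F
  have := Fintype.ofFinite F
  obtain ⟨e, hpp, -⟩ := FiniteField.card F p
  have := Fact.mk hpp
  exact (CfsgLib.ClassicalAut.Unitary.rep K hn p).exists_map hv hv0 hw hw0

theorem pvec_ne_zero (ξ : F) {i : ℕ} (hi : 2 * i + 1 < n) : (pvec ξ i : Fin n → F) ≠ 0 := fun h => by
  have := congrFun h ⟨2 * i, by omega⟩
  simp [pvec] at this

variable {V : Type*} [AddCommGroup V] [Module ℂ V] (ρ : Representation ℂ (SU n F q) V)

include hn hξ in
theorem exists_moved (h32 : ¬ (n = 3 ∧ q = 2)) (hnt : ∃ g, ρ g ≠ 1) :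
    ∃ (c : skew K) (v : V), ρ (tv K ξ 0 c) v ≠ v := by
  by_contra hc
  push Not at hc
  obtain ⟨g, hg⟩ := hnt
  refine hg ?_
  have h0 : ∀ c, ρ (tv K ξ 0 c : SU n F q) = 1 := fun c => LinearMap.ext fun v => hc c v
  have hle : gen K (n := n) ⊤ ≤ ρ.ker := by
    rw [gen, Subgroup.closure_le]
    rintro x ⟨v, -, c, hx⟩
    show ρ x = 1
    by_cases hv0 : v = 0
    · rw [show x = 1 from ext_app fun w => by rw [hx.2.2, hv0, smul_zero, add_zero, app_one], map_one]
    have h1 : 2 * 0 + 1 < n := by omega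
    obtain ⟨s, a, ha, hs⟩ := exists_map K hn (iso K hξ h1) (pvec_ne_zero ξ h1) hx.1 hv0
    have hfix : K.bar (a * K.bar a)⁻¹ = (a * K.bar a)⁻¹ := by
      rw [map_inv₀, map_mul, K.bar_bar, mul_comm]
    set b : skew K := ⟨(a * K.bar a)⁻¹ * c, mul_mem_skew K hfix hx.2.1⟩
    have hs' := sg_conj K (tv_spec K hn (iso K hξ h1) b) s
    rw [hs, show app s (0 : Fin n → F) = 0 from mulVec_zero _] at hs'
    have h2 := sg_smul K a hs' hx.1 (h_zero_left K _)
    rw [smul_zero, show a * K.bar a * (b : F) = c from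
      mul_inv_cancel_left₀ (mul_ne_zero ha ((map_ne_zero K.bar).2 ha)) c] at h2
    rw [sg_unique K ((isT_iff K).mp hx) h2, map_mul, map_mul]
    show ρ s * ρ (tv K ξ 0 b) * ρ s⁻¹ = 1
    rw [h0, mul_one, ← map_mul, mul_inv_cancel, map_one]
  exact hle (by rw [gen_top K hn h32]; trivial)

/-- The vectors fixed by the transvections at the indices below `j`. -/
noncomputable def fixed (ξ : F) (j : ℕ) : Submodule ℂ V :=
  ⨅ i, ⨅ _ : i < j, weight ρ (tv K ξ i) (1 : AddChar (skew K) ℂ)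

theorem mem_fixed {ξ : F} {j : ℕ} {v : V} :
    v ∈ fixed K ρ ξ j ↔ ∀ i, i < j → ∀ c, ρ (tv K ξ i c) v = v := by
  simp [fixed, Submodule.mem_iInf, mem_weight]

theorem fixed_succ (ξ : F) (j : ℕ) : fixed K ρ ξ (j + 1) =
    fixed K ρ ξ j ⊓ weight ρ (tv K ξ j) (1 : AddChar (skew K) ℂ) := by
  ext v
  simp only [Submodule.mem_inf, mem_fixed, mem_weight, AddChar.one_apply, one_smul]
  constructor
  · exact fun h => ⟨fun i hi => h i (by omega), h j (by omega)⟩
  · intro h i hi
    rcases Nat.lt_succ_iff_lt_or_eq.mp hi with hi' | rfl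
    exacts [h.1 i hi', h.2]

include hn in
theorem tv_apply_of_map {e e' : Fin n → F} (he : hermForm n F q e e = 0) {s : SU n F q}
    (hse : app s e = e') (c : skew K) (v : V) :
    ρ (el K e' 0 (c : F)) (ρ s v) = ρ s (ρ (el K e 0 (c : F)) v) := by
  rw [← Module.End.mul_apply, ← map_mul, conj_el K hn he c hse, map_mul, Module.End.mul_apply]

include hn hξ in
theorem tv_apply_of_fix {i : ℕ} (hi : 2 * i + 1 < n) {s : SU n F q}
    (hs : app s (pvec ξ i) = pvec ξ i) (c : skew K) {v : V} {z : ℂ} (hv : ρ (tv K ξ i c) v = z • v) :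
    ρ (tv K ξ i c) (ρ s v) = z • ρ s v := by
  rw [tv, tv_apply_of_map K hn ρ (iso K hξ hi) hs c v, ← tv, hv, map_smul]

include hn hξ hη hh in
theorem exists_start {m : ℕ} (hm : 2 * m ≤ n) (h32 : ¬ (n = 3 ∧ q = 2)) (hnt : ∃ g, ρ g ≠ 1) :
    ∀ j, j < m → ∃ (ψ : AddChar (skew K) ℂ) (v : V), ψ ≠ 1 ∧ v ≠ 0 ∧
      (∀ c, ρ (tv K ξ 0 c) v = ψ c • v) ∧ ∀ i, 1 ≤ i → i ≤ j → ∀ c, ρ (tv K ξ i c) v = v := by
  classical
  have := Fintype.ofFinite F
  intro j hj
  induction j with
  | zero =>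
    obtain ⟨c, v, hv⟩ := exists_moved K hn hξ ρ h32 hnt
    obtain ⟨ψ, w, hψ, hw0, -, hw⟩ := exists_weight_ne ρ (W := ⊤)
      (fun a b => tv_add K hn hξ (by omega) a b) (fun _ _ _ => trivial) (Submodule.mem_top (x := v)) hv
    exact ⟨ψ, w, hψ, hw0, (mem_weight ρ _).mp hw, fun i h1 h2 => absurd h2 (by omega)⟩
  | succ j ih =>
    obtain ⟨ψ, v, hψ, hv0, hv, hvfix⟩ := ih (by omega)
    have hk : 2 * (j + 1) + 1 < n := by omega
    have h0n : 2 * 0 + 1 < n := by omega
    set e : Fin n → F := pvec ξ 0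
    set e' : Fin n → F := pvec ξ (j + 1)
    set f' : Fin n → F := pvec η (j + 1)
    set h := 1 + η * K.bar ξ
    have hfe : H f' e' = h := h_pvec_self K η ξ hk
    have hee : H e e = 0 := iso K hξ h0n
    have he'e : H e' e = 0 := h_pvec_ne K ξ ξ h0n (by omega)
    have hee' : H e e' = 0 := h_eq_zero_symm K he'e
    have hf'e : H f' e = 0 := h_pvec_ne K η ξ h0n (by omega)
    have he'' : H e' e' = 0 := iso K hξ hk
    have hf'' : H f' f' = 0 := iso K hη hk
    let ya : F → F → Fin n → F := fun μ l => μ • f' + l • e'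
    have hya : ∀ μ l, H (ya μ l) e = 0 := fun μ l => by
      simp only [ya, h_add_left K, h_smul_left K, hf'e, he'e, mul_zero, add_zero]
    let a : F → SU n F q := fun l => el K e (l • e') 0
    let y : F → SU n F q := fun μ => el K e (μ • f') 0
    have ha : ∀ l, IsSg K (a l) e (l • e') 0 := fun l => el_spec K hn hee
      (by rw [h_smul_left K, he'e, mul_zero])
      (by rw [h_smul_left K, h_smul_right K, he'', map_zero]; ring)
    have hy : ∀ μ, IsSg K (y μ) e (μ • f') 0 := fun μ => el_spec K hn hee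
      (by rw [h_smul_left K, hf'e, mul_zero])
      (by rw [h_smul_left K, h_smul_right K, hf'', map_zero]; ring)
    have hT0 : ∀ c : skew K, IsSg K (tv K ξ 0 c) e 0 c := fun c => tv_spec K hn hee c
    set U0 : Submodule ℂ V := weight ρ (tv K ξ 0) ψ ⊓
      ⨅ i, ⨅ _ : 1 ≤ i ∧ i ≤ j, weight ρ (tv K ξ i) (1 : AddChar (skew K) ℂ)
    have hU0 : ∀ u, u ∈ U0 ↔ (∀ c, ρ (tv K ξ 0 c) u = ψ c • u) ∧
        ∀ i, 1 ≤ i → i ≤ j → ∀ c, ρ (tv K ξ i c) u = u := fun u => by
      simp [U0, Submodule.mem_iInf, mem_weight]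
    have hpres : ∀ s : SU n F q, app s e = e →
        (∀ i, 1 ≤ i → i ≤ j → app s (pvec ξ i) = pvec ξ i) → ∀ u ∈ U0, ρ s u ∈ U0 := by
      intro s hs0 hsi u hu
      obtain ⟨h1, h2⟩ := (hU0 u).mp hu
      refine (hU0 _).mpr ⟨fun c => tv_apply_of_fix K hn hξ ρ h0n hs0 c (h1 c), fun i hi hij c => ?_⟩
      simpa using tv_apply_of_fix K hn hξ ρ (show 2 * i + 1 < n by omega) (hsi i hi hij) c
        (z := 1) (by rw [one_smul]; exact h2 i hi hij c)
    have hpa : ∀ l, ∀ u ∈ U0, ρ (a l) u ∈ U0 := fun l => hpres _ (app_self K (ha l)) fun i hi hij =>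
      el_fix K (ha l) (h_pvec_ne K ξ ξ h0n (by omega))
        (by rw [h_smul_right K, h_pvec_ne K ξ ξ hk (by omega), mul_zero])
    have hpy : ∀ μ, ∀ u ∈ U0, ρ (y μ) u ∈ U0 := fun μ => hpres _ (app_self K (hy μ)) fun i hi hij =>
      el_fix K (hy μ) (h_pvec_ne K ξ ξ h0n (by omega))
        (by rw [h_smul_right K, h_pvec_ne K ξ η hk (by omega), mul_zero])
    have haadd : ∀ l l', a (l + l') = a l * a l' := fun l l' => by
      refine sg_unique K (ha _) ?_
      have h1 := sg_mul K (ha l) (ha l')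
      rwa [← add_smul, h_smul_left K, h_smul_right K, he'', mul_zero, mul_zero, add_zero, sub_zero] at h1
    have hcomm : ∀ l μ, a l * y μ =
        y μ * a l * tv K ξ 0 ⟨_, skew_of K (μ * K.bar l * h)⟩ := by
      intro l μ
      refine sg_unique K (sg_mul K (ha l) (hy μ)) ?_
      have h1 := sg_mul K (sg_mul K (hy μ) (ha l)) (hT0 ⟨_, skew_of K (μ * K.bar l * h)⟩)
      convert h1 using 1
      · rw [add_zero, add_comm]
      · rw [h_zero_left K, sub_zero]
        simp only [h_smul_left K, h_smul_right K, h_swap K f' e', hfe, map_mul, K.bar_bar]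
        ring
    -- a vector fixed by the `a l`
    obtain ⟨φ, w, hw0, hwU, hw⟩ := exists_weight ρ haadd hpa ((hU0 v).mpr ⟨hv, hvfix⟩) hv0
    rw [mem_weight] at hw
    let χ : F → AddChar F ℂ := fun μ =>
      { toFun := fun l => ψ ⟨_, skew_of K (μ * K.bar l * h)⟩
        map_zero_eq_one' := by
          rw [← AddChar.map_zero_eq_one ψ]
          exact congrArg ψ (Subtype.ext (by simp))
        map_add_eq_mul' := fun l l' => by
          rw [← AddChar.map_add_eq_mul]
          exact congrArg ψ (Subtype.ext (by simp [mul_add, add_mul]; ring)) }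
    have hχ : Function.Injective χ := by
      intro μ ν hμν
      by_contra hne
      refine hψ (DFunLike.ext _ _ fun c => ?_)
      obtain ⟨z, hz⟩ := exists_sub_bar K c.2
      have hd : (μ - ν) * h ≠ 0 := mul_ne_zero (sub_ne_zero.mpr hne) hh
      set l := K.bar (z / ((μ - ν) * h))
      have h1 : ψ ⟨_, skew_of K (μ * K.bar l * h)⟩ = ψ ⟨_, skew_of K (ν * K.bar l * h)⟩ :=
        DFunLike.congr_fun hμν l
      have e1 : (⟨_, skew_of K (μ * K.bar l * h)⟩ : skew K) =
          c + ⟨_, skew_of K (ν * K.bar l * h)⟩ := by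
        refine Subtype.ext ?_
        have e2 : μ * K.bar l * h = z + ν * K.bar l * h := by
          have : (μ - ν) * h * K.bar l = z := by
            rw [K.bar_bar, mul_div_cancel₀ _ hd]
          linear_combination this
        show K.bar (μ * K.bar l * h) - μ * K.bar l * h =
          (c : F) + (K.bar (ν * K.bar l * h) - ν * K.bar l * h)
        rw [e2, map_add, ← hz]
        ring
      rw [e1, AddChar.map_add_eq_mul] at h1
      rw [AddChar.one_apply]
      exact mul_right_cancel₀ (ψ.val_isUnit _).ne_zero (h1.trans (one_mul _).symm)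
    obtain ⟨μ₀, hμ₀⟩ := ((Fintype.bijective_iff_injective_and_card χ).mpr
      ⟨hχ, AddChar.card_eq.symm⟩).2 φ⁻¹
    set w1 := ρ (y μ₀) w
    have hw1U : w1 ∈ U0 := hpy μ₀ w hwU
    have hw10 : w1 ≠ 0 := fun h' => hw0 (by
      have := congrArg (ρ (y μ₀)⁻¹) h'
      simpa [w1, ← Module.End.mul_apply, ← map_mul] using this)
    have hw1 : ∀ l, ρ (a l) w1 = w1 := by
      intro l
      rw [show ρ (a l) w1 = ρ (a l * y μ₀) w by rw [map_mul]; rfl, hcomm, map_mul, map_mul]
      simp only [Module.End.mul_apply, ((hU0 w).mp hwU).1, map_smul, hw, smul_smul]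
      have h2 : ψ ⟨_, skew_of K (μ₀ * K.bar l * h)⟩ = (φ l)⁻¹ := by
        have h3 := DFunLike.congr_fun hμ₀ l
        rwa [AddChar.inv_apply, AddChar.map_neg_eq_inv] at h3
      rw [h2, inv_mul_cancel₀ (φ.val_isUnit l).ne_zero, one_smul]
    -- the next transvection group
    have hpT : ∀ c : skew K, ∀ u ∈ U0 ⊓ weight ρ a (1 : AddChar F ℂ),
        ρ (tv K ξ (j + 1) c) u ∈ U0 ⊓ weight ρ a (1 : AddChar F ℂ) := by
      intro c u hu
      have hsg := tv_spec K hn he'' c
      have hfix : ∀ x : Fin n → F, H x e' = 0 → app (el K e' 0 (c : F)) x = x := fun x hx =>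
        el_fix K hsg hx (h_zero_right K _)
      refine ⟨hpres _ (hfix e hee') (fun i hi hij => hfix _ (h_pvec_ne K ξ ξ hk (by omega))) u hu.1,
        (mem_weight ρ a).mpr fun l => ?_⟩
      have h1 := sg_conj K (ha l) (tv K ξ (j + 1) c)
      rw [show app (tv K ξ (j + 1) c) e = e from hfix e hee',
        show app (tv K ξ (j + 1) c) (l • e') = l • e' by
          rw [app_smul]; exact congrArg (l • ·) (app_self K hsg)] at h1
      have h2 : a l * tv K ξ (j + 1) c = tv K ξ (j + 1) c * a l := by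
        rw [sg_unique K (ha l) h1, mul_assoc, inv_mul_cancel, mul_one]
        exact (congrArg (tv K ξ (j + 1) c * ·) (sg_unique K h1 (ha l))).symm ▸ rfl
      rw [← Module.End.mul_apply, ← map_mul, h2, map_mul, Module.End.mul_apply,
        (mem_weight ρ a).mp hu.2 l, map_smul]
    have hw1mem : w1 ∈ U0 ⊓ weight ρ a (1 : AddChar F ℂ) :=
      ⟨hw1U, (mem_weight ρ a).mpr fun l => by rw [hw1, AddChar.one_apply, one_smul]⟩
    obtain ⟨κ, w2, hw20, hw2m, hw2⟩ := exists_weight ρ (fun b b' => tv_add K hn hξ hk b b')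
      hpT hw1mem hw10
    rw [mem_weight] at hw2
    obtain ⟨hw2U, hw2a⟩ := Submodule.mem_inf.mp hw2m
    rw [mem_weight] at hw2a
    obtain ⟨s, hs⟩ := twist_surjective K hψ κ⁻¹
    have hN : K.bar (h * K.bar h) = h * K.bar h := by rw [map_mul, K.bar_bar, mul_comm]
    obtain ⟨μ, hμ⟩ := K.exists_norm ((s : F) / (h * K.bar h)) (by rw [map_div₀, s.2, hN])
    have hhb : h * K.bar h ≠ 0 := mul_ne_zero hh ((map_ne_zero K.bar).2 hh)
    have hμs : μ * K.bar μ * (h * K.bar h) = s := by rw [hμ, div_mul_cancel₀ _ hhb]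
    set v3 := ρ (y μ) w2
    have hv30 : v3 ≠ 0 := fun h' => hw20 (by
      have := congrArg (ρ (y μ)⁻¹) h'
      simpa [v3, ← Module.End.mul_apply, ← map_mul] using this)
    obtain ⟨hv31, hv32⟩ := (hU0 v3).mp (hpy μ w2 hw2U)
    refine ⟨ψ, v3, hψ, hv30, hv31, fun i hi hij c => ?_⟩
    rcases Nat.lt_or_eq_of_le hij with hij' | rfl
    · exact hv32 i hi (by omega) c
    have hsg := tv_spec K hn he'' c
    set l := (c : F) * μ * h
    have hcs : (c : F) * s ∈ skew K := by rw [mul_comm]; exact mul_mem_skew K s.2 c.2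
    have h1 := sg_conj K (hy μ) (tv K ξ (j + 1) c)
    rw [show app (tv K ξ (j + 1) c) e = e from el_fix K hsg hee' (h_zero_right K _),
      show app (tv K ξ (j + 1) c) (μ • f') = μ • f' + l • e' by
        rw [app_smul, show app (tv K ξ (j + 1) c) f' = f' + ((c : F) * h) • e' by
          rw [show tv K ξ (j + 1) c = el K e' 0 (c : F) from rfl, app_eq K hsg, hfe, h_zero_right K]
          module, smul_add, smul_smul]
        congr 2
        ring] at h1
    have h2 : tv K ξ (j + 1) c * y μ * (tv K ξ (j + 1) c)⁻¹ = y μ * a l * tv K ξ 0 ⟨_, hcs⟩ := by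
      refine sg_unique K h1 ?_
      have h3 := sg_mul K (sg_mul K (hy μ) (ha l)) (hT0 ⟨_, hcs⟩)
      convert h3 using 1
      · rw [add_zero]
      · rw [h_zero_left K, sub_zero]
        simp only [l, h_smul_left K, h_smul_right K, h_swap K f' e', hfe]
        linear_combination (c : F) * hμs
    have h4 : tv K ξ (j + 1) c * y μ = y μ * a l * tv K ξ 0 ⟨_, hcs⟩ * tv K ξ (j + 1) c := by
      rw [← h2, inv_mul_cancel_right]
    rw [show ρ (tv K ξ (j + 1) c) v3 = ρ (tv K ξ (j + 1) c * y μ) w2 by rw [map_mul]; rfl, h4]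
    simp only [map_mul, Module.End.mul_apply, hw2, map_smul, ((hU0 w2).mp hw2U).1, hw2a,
      AddChar.one_apply, one_smul, smul_smul]
    have h5 : ψ ⟨_, hcs⟩ = (κ c)⁻¹ := by
      have h6 := DFunLike.congr_fun hs c
      rw [twist_apply, AddChar.inv_apply, AddChar.map_neg_eq_inv] at h6
      rw [← h6]
      exact congrArg ψ (Subtype.ext (mul_comm _ _))
    rw [h5, mul_inv_cancel₀ (κ.val_isUnit c).ne_zero, one_smul]

/-- A vector vanishing below the `j`-th pair. -/
abbrev Tail (F : Type*) [Field F] (n j : ℕ) : Type _ :=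
  {x : Fin n → F // ∀ k : Fin n, (k : ℕ) < 2 * j + 2 → x k = 0}

theorem card_tail (j : ℕ) [Fintype (Tail F n j)] :
    Fintype.card (Tail F n j) = Nat.card F ^ (n - (2 * j + 2)) := by
  classical
  rw [← Nat.card_eq_fintype_card, Nat.card_congr (β := Fin (n - (2 * j + 2)) → F) ?_,
    Nat.card_fun, Nat.card_eq_fintype_card (α := Fin _), Fintype.card_fin]
  exact
    { toFun := fun x i => x.1 ⟨2 * j + 2 + i, by omega⟩
      invFun := fun f => ⟨fun k => if h : 2 * j + 2 ≤ (k : ℕ) then f ⟨k - (2 * j + 2), by omega⟩ else 0,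
        fun k hk => dif_neg (by omega)⟩
      left_inv := fun x => Subtype.ext (funext fun k => by
        show (if h : 2 * j + 2 ≤ (k : ℕ) then _ else 0) = _
        split_ifs with h
        · exact congrArg x.1 (Fin.ext (by simp; omega))
        · exact (x.2 k (by omega)).symm)
      right_inv := fun f => funext fun i => by
        show (if h : 2 * j + 2 ≤ 2 * j + 2 + (i : ℕ) then _ else 0) = _
        rw [dif_pos (Nat.le_add_right _ _)]
        exact congrArg f (Fin.ext (by simp)) }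

include hn hξ in
theorem le_finrank_weight [FiniteDimensional ℂ V] {j : ℕ} (hj : 2 * j + 1 < n)
    {φ : AddChar (skew K) ℂ} (hφ : φ ≠ 1)
    (hU : fixed K ρ ξ j ⊓ weight ρ (tv K ξ j) φ ≠ ⊥) :
    q ^ (n - (2 * j + 2)) ≤ finrank ℂ (fixed K ρ ξ j ⊓ weight ρ (tv K ξ j) φ : Submodule ℂ V) := by
  classical
  have := Fintype.ofFinite (Tail F n j)
  set U := fixed K ρ ξ j ⊓ weight ρ (tv K ξ j) φ
  choose t ht using fun x : Tail F n j => (Unitary.space (n := n) K).tr x.1
  set e : Fin n → F := pvec ξ j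
  have hperp : ∀ x : Tail F n j, ∀ i, i ≤ j → H x.1 (pvec ξ i) = 0 := fun x i hi => by
    rw [h_pvec K _ ξ (by omega), x.2 _ (by show 2 * i < _; omega),
      x.2 _ (by show 2 * i + 1 < _; omega), mul_zero, add_zero]
  let S : Tail F n j → SU n F q := fun x => el K e x.1 (t x)
  have hS : ∀ x, IsSg K (S x) e x.1 (t x) := fun x => el_spec K hn (iso K hξ hj) (hperp x j le_rfl) (by
    have h1 : H x.1 x.1 + (1 : F) * t x + K.bar (t x) = 0 := ht x
    rwa [one_mul] at h1)
  have hfix : ∀ x, ∀ i, i ≤ j → app (S x) (pvec ξ i) = pvec ξ i := by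
    intro x i hi
    refine el_fix K (hS x) ?_ (h_eq_zero_symm K (hperp x i hi))
    rcases Nat.lt_or_eq_of_le hi with h | rfl
    exacts [h_pvec_ne K ξ ξ hj h.ne, iso K hξ hj]
  have hSU : ∀ x, ∀ v ∈ U, ρ (S x) v ∈ U := by
    intro x v hv
    obtain ⟨h1, h2⟩ := hv
    rw [SetLike.mem_coe, mem_fixed] at h1
    rw [SetLike.mem_coe, mem_weight] at h2
    refine ⟨(mem_fixed K ρ).mpr fun i hi c => ?_, (mem_weight ρ _).mpr fun c =>
      tv_apply_of_fix K hn hξ ρ hj (hfix x j le_rfl) c (h2 c)⟩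
    simpa using tv_apply_of_fix K hn hξ ρ (show 2 * i + 1 < n by omega) (hfix x i hi.le) c
      (z := 1) (by rw [one_smul]; exact h1 i hi c)
  let cc : Tail F n j → Tail F n j → skew K := fun x y =>
    ⟨H x.1 y.1 - H y.1 x.1, by rw [h_swap K y.1 x.1]; exact skew_of K _⟩
  have hω : ∀ x y, ∀ v ∈ U, ρ (S x * S y) v = φ (cc x y) • ρ (S y * S x) v := by
    intro x y v hv
    have e1 : S x * S y = S y * S x * tv K ξ j (cc x y) := by
      refine sg_unique K (sg_mul K (hS x) (hS y)) ?_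
      have h3 := sg_mul K (sg_mul K (hS y) (hS x)) (tv_spec K hn (iso K hξ hj) (cc x y))
      convert h3 using 1
      · rfl
      · rw [add_zero, add_comm]
      · rw [h_zero_left K, sub_zero]
        show t x + t y - H y.1 x.1 = t y + t x - H x.1 y.1 + (H x.1 y.1 - H y.1 x.1)
        ring
    rw [e1, map_mul, Module.End.mul_apply, (mem_weight ρ _).mp hv.2, map_smul]
  have hsep : ∀ x z, x ≠ z → ∃ y, φ (cc x y) ≠ φ (cc z y) := by
    intro x z hxz
    obtain ⟨c, hc⟩ := DFunLike.ne_iff.mp hφ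
    obtain ⟨k, hk⟩ := Function.ne_iff.mp fun h : x.1 = z.1 => hxz (Subtype.ext h)
    have hk2 : ¬ (k : ℕ) < 2 * j + 2 := fun h => hk (by rw [x.2 k h, z.2 k h])
    obtain ⟨w, hw⟩ := exists_sub_bar K c.2
    set d := x.1 k - z.1 k
    have hd : d ≠ 0 := sub_ne_zero.mpr hk
    let y : Tail F n j := ⟨K.bar (-w / d) • Pi.single k 1, fun k' hk' => by
      rw [Pi.smul_apply, Pi.single_eq_of_ne (fun e' => hk2 (by rw [← e']; exact hk')), smul_zero]⟩
    refine ⟨y, fun h => hc ?_⟩
    have e2 : cc x y = c + cc z y := by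
      refine Subtype.ext ?_
      show H x.1 (K.bar (-w / d) • Pi.single k 1) - H (K.bar (-w / d) • Pi.single k 1) x.1 =
        (c : F) + (H z.1 (K.bar (-w / d) • Pi.single k 1) - H (K.bar (-w / d) • Pi.single k 1) z.1)
      simp only [h_smul_left K, h_smul_right K, h_single K, h_single_left K, K.bar_bar]
      have e3 : x.1 k * (-w / d) - z.1 k * (-w / d) = -w := by
        rw [← sub_mul]; exact mul_div_cancel₀ _ hd
      have e4 := congrArg K.bar e3
      simp only [map_sub, map_mul, map_neg] at e4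
      linear_combination e3 - e4 + hw
    rw [e2, AddChar.map_add_eq_mul] at h
    rw [AddChar.one_apply]
    exact mul_right_cancel₀ (φ.val_isUnit _).ne_zero (h.trans (one_mul _).symm)
  have h := card_le_finrank_sq ρ U hU S hSU (fun x y => φ (cc x y)) hω hsep
  rw [card_tail, K.card, ← pow_mul, mul_comm 2, pow_mul, sq] at h
  exact Nat.mul_self_le_mul_self_iff.mp h

include hn hξ hη hh in
theorem weight_ne_bot {m : ℕ} (hm : 2 * m ≤ n) (h32 : ¬ (n = 3 ∧ q = 2)) (hnt : ∃ g, ρ g ≠ 1)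
    {j : ℕ} (hj : j < m) :
    ∃ ψ : AddChar (skew K) ℂ, ψ ≠ 1 ∧ ∀ s : {s : F // K.bar s = s}, (s : F) ≠ 0 →
      fixed K ρ ξ j ⊓ weight ρ (tv K ξ j) (twist K ψ s) ≠ ⊥ := by
  obtain ⟨ψ, v, hψ, hv0, hv, hvfix⟩ := exists_start K hn hξ hη hh ρ hm h32 hnt j hj
  obtain ⟨g, hg0, hgj, hgi⟩ := exists_swap K ξ (show 2 * j + 1 < n by omega)
  have hmap : ∀ a b, 2 * a + 1 < n → app g (pvec ξ a) = pvec ξ b → ∀ c,
      ρ (tv K ξ b c) (ρ g v) = ρ g (ρ (tv K ξ a c) v) := fun a b ha hab c =>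
    tv_apply_of_map K hn ρ (iso K hξ ha) hab c v
  have h1 : ∀ i, i < j → ∀ c, ρ (tv K ξ i c) (ρ g v) = ρ g v := by
    intro i hi c
    rcases Nat.eq_zero_or_pos i with rfl | hpos
    · rw [hmap j 0 (by omega) hgj, hvfix j (by omega) le_rfl]
    · rw [hmap i i (by omega) (hgi i (by omega) hi.ne), hvfix i hpos hi.le]
  have h2 : ∀ c, ρ (tv K ξ j c) (ρ g v) = ψ c • ρ g v := fun c => by
    rw [hmap 0 j (by omega) hg0, hv, map_smul]
  refine ⟨ψ, hψ, fun s hs => ?_⟩
  obtain ⟨r, hr⟩ := K.exists_norm (s : F)⁻¹ (by rw [map_inv₀, s.2])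
  have hr0 : r ≠ 0 := fun h => inv_ne_zero hs (by rw [← hr, h, zero_mul])
  obtain ⟨k, hkj, hki⟩ := exists_scale K hξ hη hh hn (show 2 * j + 1 < n by omega) hr0
  have hscale : ∀ i, 2 * i + 1 < n → ∀ d : F, d ≠ 0 → app k (pvec ξ i) = d • pvec ξ i →
      ∀ c : skew K, ∃ c' : skew K, (c' : F) * (d * K.bar d) = c ∧
        ρ (tv K ξ i c) (ρ k (ρ g v)) = ρ k (ρ (tv K ξ i c') (ρ g v)) := by
    intro i hi d hd hkd c
    have hfix : K.bar (d * K.bar d)⁻¹ = (d * K.bar d)⁻¹ := by
      rw [map_inv₀, map_mul, K.bar_bar, mul_comm]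
    have hd' : d * K.bar d ≠ 0 := mul_ne_zero hd ((map_ne_zero K.bar).2 hd)
    refine ⟨⟨(d * K.bar d)⁻¹ * c, mul_mem_skew K hfix c.2⟩, ?_, ?_⟩
    · show (d * K.bar d)⁻¹ * (c : F) * (d * K.bar d) = c
      rw [mul_comm (d * K.bar d)⁻¹, inv_mul_cancel_right₀ hd']
    · have hs' := sg_conj K (tv_spec K hn (iso K hξ hi) ⟨_, mul_mem_skew K hfix c.2⟩) k
      rw [hkd, show app k (0 : Fin n → F) = 0 from mulVec_zero _] at hs'
      have h3 := sg_smul K d hs' (iso K hξ hi) (h_zero_left K _)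
      rw [smul_zero, mul_inv_cancel_left₀ hd'] at h3
      rw [tv, sg_unique K (tv_spec K hn (iso K hξ hi) c) h3]
      simp only [← Module.End.mul_apply, ← map_mul]
      congr 2
      simp [mul_assoc, tv]
  refine (Submodule.ne_bot_iff _).mpr ⟨ρ k (ρ g v), ⟨(mem_fixed K ρ).mpr fun i hi c => ?_,
    (mem_weight ρ _).mpr fun c => ?_⟩, fun h => hv0 ?_⟩
  · obtain ⟨d, hd, hdi⟩ := hki i hi
    obtain ⟨c', -, hc'⟩ := hscale i (by omega) d hd hdi c
    rw [hc', h1 i hi]
  · obtain ⟨c', hc1, hc'⟩ := hscale j (by omega) r hr0 hkj c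
    rw [hc', h2, map_smul, twist_apply]
    congr 2
    refine Subtype.ext ?_
    show (c' : F) = s * c
    rw [← hc1, hr]
    field_simp
  · have h3 := congrArg (ρ (k * g)⁻¹) h
    rw [map_zero, ← Module.End.mul_apply, ← Module.End.mul_apply] at h3
    simpa [← map_mul, mul_assoc] using h3

include hn hξ hη hh in
theorem le_finrank_fixed [FiniteDimensional ℂ V] {m : ℕ} (hm : 2 * m ≤ n)
    (h32 : ¬ (n = 3 ∧ q = 2)) (hnt : ∃ g, ρ g ≠ 1) {j : ℕ} (hj : j < m) :
    (q - 1) * q ^ (n - (2 * j + 2)) + finrank ℂ (fixed K ρ ξ (j + 1)) ≤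
      finrank ℂ (fixed K ρ ξ j) := by
  classical
  have := Fintype.ofFinite {s : F // K.bar s = s}
  obtain ⟨ψ, hψ, hne⟩ := weight_ne_bot K hn hξ hη hh ρ hm h32 hnt hj
  have hsum := sum_finrank_le ρ (twist K ψ) (twist_injective K hψ) (fixed K ρ ξ j)
    (T := tv (n := n) K ξ j)
  set z : {s : F // K.bar s = s} := ⟨0, map_zero _⟩
  have hz : twist K ψ z = 1 := DFunLike.ext _ _ fun c => by
    rw [twist_apply, AddChar.one_apply, ← AddChar.map_zero_eq_one ψ]
    exact congrArg ψ (Subtype.ext (zero_mul _))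
  rw [← Finset.add_sum_erase _ _ (Finset.mem_univ z), hz, ← fixed_succ] at hsum
  have hlow : ∀ s ∈ Finset.univ.erase z, q ^ (n - (2 * j + 2)) ≤
      finrank ℂ (fixed K ρ ξ j ⊓ weight ρ (tv K ξ j) (twist K ψ s) : Submodule ℂ V) := by
    intro s hs
    have hs0 : (s : F) ≠ 0 := fun h => (Finset.mem_erase.mp hs).1 (Subtype.ext h)
    refine le_finrank_weight K hn hξ ρ (by omega) (fun h => ?_) (hne s hs0)
    exact hs0 (congrArg Subtype.val (twist_injective K hψ (h.trans hz.symm)))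
  have h1 := Finset.card_nsmul_le_sum _ _ _ hlow
  rw [Finset.card_erase_of_mem (Finset.mem_univ z), Finset.card_univ, ← Nat.card_eq_fintype_card,
    Classical.URoot.card_fix, smul_eq_mul] at h1
  omega

include K in
/-- The degree bound. -/
theorem degree_bound (hn : 3 ≤ n) (h32 : ¬ (n = 3 ∧ q = 2)) {m : ℕ} (hm : 2 * m ≤ n) {k : ℕ}
    (ρ : Representation ℂ (SU n F q) (Fin k → ℂ)) (hirr : ρ.IsIrreducible) (hk : 2 ≤ k) :
    (q ^ n - q ^ (n - 2 * m)) / (q + 1) ≤ k := by
  obtain ⟨ξ, η, hξ, hη, hh⟩ := exists_pair K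
  have hnt : ∃ g, ρ g ≠ 1 := by
    by_contra hc
    push Not at hc
    let v : Fin k → ℂ := Pi.single ⟨0, by omega⟩ 1
    let W : Subrepresentation ρ := ⟨Submodule.span ℂ {v}, fun g x hx => by rw [hc g]; exact hx⟩
    let B : Subrepresentation ρ := ⟨⊥, fun g x hx => by rw [hc g]; exact hx⟩
    let T : Subrepresentation ρ := ⟨⊤, fun g x hx => by rw [hc g]; exact hx⟩
    have := hirr
    have hW : finrank ℂ W.toSubmodule = 1 := finrank_span_singleton (by simp [v])
    rcases IsSimpleOrder.eq_bot_or_eq_top W with h | h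
    · rw [h] at hW
      exact absurd hW (by rw [show (⊥ : Subrepresentation ρ).toSubmodule = ⊥ from rfl, finrank_bot]; omega)
    · rw [h, show (⊤ : Subrepresentation ρ).toSubmodule = ⊤ from rfl, finrank_top, finrank_fin_fun] at hW
      omega
  have key : ∀ j, j ≤ m →
      q ^ n - q ^ (n - 2 * j) + (q + 1) * finrank ℂ (fixed K ρ ξ j) ≤ (q + 1) * k := by
    intro j hj
    induction j with
    | zero =>
      rw [mul_zero, tsub_zero, Nat.sub_self, zero_add]
      exact Nat.mul_le_mul_left _ ((Submodule.finrank_le _).trans (finrank_fin_fun ℂ).le)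
    | succ j ih =>
      have h1 := Nat.mul_le_mul_left (q + 1) (le_finrank_fixed K hn hξ hη hh ρ hm h32 hnt (j := j) (by omega))
      have h2 := ih (by omega)
      obtain ⟨p, hp⟩ : ∃ p, q ^ (n - (2 * j + 2)) = p := ⟨_, rfl⟩
      have h3 : q ^ (n - 2 * j) = p * (q * q) := by
        rw [← hp, ← sq, ← pow_add, show n - (2 * j + 2) + 2 = n - 2 * j by omega]
      have h5 : q ^ (n - 2 * j) ≤ q ^ n :=
        Nat.pow_le_pow_right (by have := K.two_le; omega) (Nat.sub_le _ _)
      rw [show 2 * (j + 1) = 2 * j + 2 by ring, hp]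
      rw [h3] at h2 h5
      rw [hp, mul_add] at h1
      have h6 : (q + 1) * ((q - 1) * p) + p = p * (q * q) := by
        obtain ⟨r, hr⟩ : ∃ r, q = r + 1 := ⟨q - 1, by have := K.two_le; omega⟩
        rw [hr, Nat.add_sub_cancel]; ring
      omega
  have := key m le_rfl
  exact Nat.div_le_of_le_mul (by omega)

end CfsgLib.SUMinDegree
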